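/-
Coset enumeration data, found by a computer search; checked by `decide +kernel`.
-/
import Cfsg.Agent.Lib.Spor.TC.Check

namespace CfsgLib.Spor.Held.CA

open CfsgLib.Spor.TC

def edgeTbl : Tbl :=
  .bin (.tip 0x10000140000100001300001000012000010000110000000001000000000004000000000030000000000200000000001) (.none)

def nodeTbl : Tbl :=
  .bin (.tip 0x0) (.none)

def rowTbl : Tbl :=
  .bin (.tip 0x100000) (.none)

def rels : List (List ℕ) := [[0, 1, 0, 1], [0, 2, 0, 2], [0, 3, 0, 3], [0, 4, 0, 4], [1, 2, 1, 2, 1, 2], [1, 3, 1, 3, 1, 3], [1, 4, 1, 4, 1, 4], [2, 3, 2, 3], [2, 4, 2, 4], [3, 4, 3, 4, 3, 4, 3, 4], [2, 4, 3, 4, 3]]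

def subs : List (List ℕ) := [[1], [2], [3], [4]]

noncomputable def cert : Cert :=
  ⟨5, rels, subs, edgeTbl.get 44, nodeTbl.get 24, rowTbl.get 20⟩

end CfsgLib.Spor.Held.CA
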