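/-
Coset enumeration certificate, found by a computer search.
-/
import Cfsg.Agent.Lib.Spor.Held.CA.Data

namespace CfsgLib.Spor.Held.CA

open CfsgLib.Spor.TC

def scodes0_0 : List ℕ :=
  [0x10000100003,
   0x10000200003,
   0x10000300003,
   0x10000400003,
   0x1,
   0x9000020000a00002000010000100002,
   0x9000040000a00002000010000200002,
   0x9000060000a00002000010000300002,
   0x9000080000a00002000010000400002]

def scodes0_ : List ℕ :=
  scodes0_0

set_option maxRecDepth 100000 in
theorem steps0 : cert.StepsOK 0 9 :=
  Cert.StepsOK.of_check _ (codes := scodes0_) (by decide +kernel)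

def rcodes0_0 : List ℕ :=
  [0x70000100000500001000003000010000010000100000800002,
   0x110000200000f0000200000d0000200000b0000200000900001]

def rcodes0_ : List ℕ :=
  rcodes0_0

set_option maxRecDepth 100000 in
theorem rows0 : cert.RowsOK 9 2 0 2 :=
  Cert.RowsOK.of_check _ (codes := rcodes0_) (by decide +kernel)

end CfsgLib.Spor.Held.CA
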